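import Mathlib
import Cfsg.Agent.Lib.E7M.RootA

/-!
# Root involutions of `E₇(2)`, their vectors, and their position relative to the highest one
-/

set_option autoImplicit false

namespace CfsgLib.E7M

open Cfsg.Lie CfsgLib.Comput CfsgLib.RGD CfsgLib.ChevAut
open CfsgLib.Chev hiding force force_eq ix allLt
open CfsgLib.Weyl hiding co allLt force force_eq
open scoped Matrix

theorem e_inj {r s : ℕ} (hr : r < 133) (h : e r = e s) : r = s := by
  have := congrArg (co r) h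
  rw [co_e hr, co_e hr, if_pos rfl] at this
  by_contra hne
  rw [if_neg hne] at this
  exact one_ne_zero this

/-- monomial elements -/
def Mono (n : Γ) : Prop := ∀ s < 126, ∃ s' < 126, n * x s * n⁻¹ = x s' ∧ act n (e s) = e s'

theorem Mono.one : Mono 1 := fun s hs => ⟨s, hs, by simp, act_one _⟩

theorem Mono.mul {a b : Γ} (ha : Mono a) (hb : Mono b) : Mono (a * b) := fun s hs => by
  obtain ⟨t, ht, h1, h2⟩ := hb s hs
  obtain ⟨u, hu, h3, h4⟩ := ha t ht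
  exact ⟨u, hu, by rw [← h3, ← h1]; group, by rw [act_mul, h2, h4]⟩

theorem mono_nU {r : ℕ} (hr : r < 126) : Mono (nU chevE7 F2 r 1) := fun s hs => by
  have he : ((eta chevE7 r s : ℤ) : F2) = 1 := by
    rcases eta_eq (D := chevE7) hr hs with h | h <;> rw [h] <;> rfl
  have hl : refl chevE7 r s < 126 := refl_lt (D := chevE7) hr hs
  refine ⟨_, hl, ?_, ?_⟩
  · rw [x, nU_conj_xU hr hs one_ne_zero, he, one_zpow, one_mul, one_mul, x]
  · have := nMat_one_eV (D := chevE7) (F := F2) hr hs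
    rw [he, one_smul, ← nU_val] at this
    rw [e_root hs, e_root hl, ← this]; rfl

/-- the word of a reflection -/
noncomputable def nw (a : ℕ) : List ℕ := cond (Nat.blt a 126) [a, 125 - a, a] []

theorem nU_eq {r : ℕ} (hr : r < 126) : nU chevE7 F2 r 1 = wd [r, 125 - r, r] := by
  rw [wd3, nU, show chevE7.neg r = 125 - r from neg_eq (D := chevE7) hr, inv_one, show (-1 : F2) = 1 from by decide]; rfl

theorem mono_nw (a : ℕ) : Mono (wd (nw a)) := by
  unfold nw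
  cases h : Nat.blt a 126
  · exact Mono.one
  · rw [cond_true, ← nU_eq (by simpa using h)]; exact mono_nU (by simpa using h)

theorem Mono.conj {n : Γ} (h : Mono n) {r s : ℕ} (hs : s < 126) (hr : r < 133) (e1 : act n (e s) = e r) :
    n * x s * n⁻¹ = x r := by
  obtain ⟨t, -, h1, h2⟩ := h s hs
  rw [h1, e_inj hr (e1.symm.trans h2)]

theorem bruhat {g : Γ} (hg : g ∈ grp) : ∃ u ∈ C, ∃ r < 126, g * X * g⁻¹ = u * x r * u⁻¹ ∧ act g eT = act u (e r) := by
  obtain ⟨u, hu, n, hn, w, -, -, u', hu', rfl⟩ := hS.exists_bruhat (grp_eq ▸ hg)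
  obtain ⟨a, ha, L, rfl⟩ := S.mem_N_iff.1 hn
  rw [H_bot, Subgroup.mem_bot] at ha
  have hm : Mono (S.nprod L) := by
    clear hn hg
    induction L with
    | nil => exact Mono.one
    | cons i L ih => rw [S.nprod_cons, stSys_n]; exact (mono_nU (r := _) (Fin.is_lt _)).mul ih
  have h' : u' ∈ C := U_le (U_eq ▸ S.UU_mono (fun _ h => h.1) hu')
  obtain ⟨r, hr, h1, h2⟩ := hm 125 (by norm_num)
  refine ⟨u, U_le (U_eq ▸ hu), r, hr, ?_, by rw [ha, one_mul, act_mul, act_mul, (cf h').t, eT_def, h2]⟩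
  rw [ha, one_mul, mul_assoc _ u', (cf h').x, ← h1, X_def]; group

theorem C_of_comm {g : Γ} (hg : g ∈ grp) (h : g * X = X * g) : g ∈ C := by
  have := (centralizer_xU (F := F2) rtOKE7 (r := 125) (by decide +kernel) (i₀ := 0) (by decide +kernel)
    (by decide +kernel) (commute_last rtOKE7 rfl) (L := [47, 52, 56, 59, 61, 62]) (by decide +kernel)
    (by decide +kernel)).le ⟨hg, Subgroup.mem_centralizer_singleton_iff.2 (by rw [X_def] at h; exact h)⟩
  refine (sup_le ?_ ?_ : _ ≤ C) this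
  · rw [← stSys_U rtOKE7]; exact U_eq.le.trans U_le
  · rw [Subgroup.closure_le]
    rintro g ⟨s, c, hs, e1⟩
    rw [show g = xU chevE7 F2 s c from Units.ext e1]
    rcases f2 c with rfl | rfl
    · rw [xU_zero]; exact one_mem _
    · simp only [List.mem_cons, List.not_mem_nil, or_false] at hs
      exact x_gen (by omega) (by omega)

theorem C_of_fix {g : Γ} (hg : g ∈ grp) (h : act g eT = eT) : g ∈ C := by
  obtain ⟨u, hu, r, hr, h1, h2⟩ := bruhat hg
  have : e r = e 125 := act_cancel (g := u) (by rw [← h2, h, ← eT_def, (cf hu).t])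
  have h3 : r = 125 := e_inj (r := r) (by omega) this
  rw [h3, ← X_def, (cf hu).x, mul_inv_cancel_right] at h1
  exact C_of_comm hg (by rw [show g * X = g * X * g⁻¹ * g by group, h1])

/-- `d` is a root involution with vector `v` -/
def Rt (d : Γ) (v : V) : Prop := ∃ g ∈ grp, d = g * X * g⁻¹ ∧ v = act g eT

theorem rt_of {g : Γ} (hg : g ∈ grp) : Rt (g * X * g⁻¹) (act g eT) := ⟨g, hg, rfl, rfl⟩

theorem rt_X : Rt X eT := ⟨1, one_mem _, by simp, (act_one _).symm⟩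

theorem Rt.conj {d h : Γ} {v : V} (a : Rt d v) (hh : h ∈ grp) : Rt (h * d * h⁻¹) (act h v) := by
  obtain ⟨g, hg, rfl, rfl⟩ := a
  exact ⟨h * g, mul_mem hh hg, by group, (act_mul _ _ _).symm⟩

theorem Rt.mem {d : Γ} {v : V} (a : Rt d v) : d ∈ grp := by
  obtain ⟨g, hg, rfl, -⟩ := a
  exact mul_mem (mul_mem hg X_grp) (inv_mem hg)

theorem Rt.sq {d : Γ} {v : V} (a : Rt d v) : d * d = 1 := by
  obtain ⟨g, -, rfl, -⟩ := a
  rw [show g * X * g⁻¹ * (g * X * g⁻¹) = g * (X * X) * g⁻¹ by group, XX, mul_one, mul_inv_cancel]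

theorem Rt.fix_iff {d h : Γ} {v : V} (a : Rt d v) (hh : h ∈ grp) : act h v = v ↔ h * d = d * h := by
  obtain ⟨g, hg, rfl, rfl⟩ := a
  have hm := mul_mem (mul_mem (inv_mem hg) hh) hg
  constructor
  · intro h1
    have := (cf (C_of_fix hm (by rw [act_mul, act_mul, h1, act_inv]))).x
    rw [show h * (g * X * g⁻¹) = g * (g⁻¹ * h * g * X) * g⁻¹ by group, this]; group
  · intro h1
    have := (cf (C_of_comm hm (by rw [show g⁻¹ * h * g * X = g⁻¹ * (h * (g * X * g⁻¹)) * g by group, h1]; group))).t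
    rw [act_mul, act_mul] at this
    exact act_cancel (g := g⁻¹) (by rw [this, act_inv])

theorem Rt.form {d : Γ} {v : V} (a : Rt d v) : ∃ u ∈ C, ∃ r < 126, d = u * x r * u⁻¹ ∧ v = act u (e r) := by
  obtain ⟨g, hg, rfl, rfl⟩ := a
  exact bruhat hg

theorem nn : X * Y * X * (X * Y * X) = 1 := by
  rw [show X * Y * X * (X * Y * X) = X * (Y * (X * X) * Y) * X by group, XX, mul_one, YY, mul_one, XX]

theorem n_inv : (X * Y * X)⁻¹ = X * Y * X := inv_eq_of_mul_eq_one_right nn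

theorem n_eT : act (X * Y * X) eT = e0 := by rw [← n_e0, ← act_mul, nn, act_one]

theorem n_X : X * Y * X * X * (X * Y * X)⁻¹ = Y := by
  rw [n_inv, mul_assoc _ X X, XX, mul_one, show X * Y * (X * Y * X) = X * (Y * X * Y) * X by group, ← braid,
    show X * (X * Y * X) * X = X * X * Y * (X * X) by group, XX, one_mul, mul_one]

theorem n_grp : X * Y * X ∈ grp := mul_mem (mul_mem X_grp Y_grp) X_grp

theorem rt_Y : Rt Y e0 := ⟨_, n_grp, n_X.symm, n_eT.symm⟩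

theorem co_e0 : co 0 e0 = 1 := by rw [e0_def, co_e (by norm_num), if_pos rfl]

theorem co_eT : co 0 eT = 0 := by rw [eT_def, co_e (by norm_num), if_neg (by norm_num)]

def ta : List ℕ := [0, 32, 31, 30, 29, 28, 27, 26, 25, 24, 23, 22, 21, 20, 19, 18, 17, 16, 15, 14, 13, 12, 11, 10, 9, 8, 7, 6, 5, 4, 3, 2, 1, 17, 18, 19, 20, 21, 22, 23, 24, 25, 26, 23, 24, 25, 26, 26, 27, 28, 29, 30, 31, 27, 28, 29, 30, 27, 28, 29, 27, 28, 27, 28, 29, 29, 30, 30, 30, 31, 31, 31, 31, 32, 32, 32, 32, 32, 30, 31, 31, 31, 31, 32, 32, 32, 32, 32, 32, 32, 32, 32, 32, 1, 2, 3, 4, 5, 6, 7, 8, 9, 10, 11, 12, 13, 14, 15, 16, 17, 18, 19, 20, 21, 22, 23, 24, 25, 26, 27, 28, 29, 30, 31, 32, 126]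
def tb : List ℕ := [126, 0, 0, 0, 0, 0, 0, 0, 0, 0, 0, 0, 0, 0, 0, 0, 0, 0, 0, 0, 0, 0, 0, 0, 0, 0, 0, 0, 0, 0, 0, 0, 0, 1, 1, 1, 1, 1, 1, 1, 1, 1, 1, 2, 2, 2, 2, 3, 1, 1, 1, 1, 1, 2, 2, 2, 2, 3, 3, 3, 4, 4, 5, 6, 5, 6, 4, 5, 6, 3, 4, 5, 6, 2, 3, 4, 5, 6, 7, 7, 8, 9, 10, 7, 8, 9, 10, 11, 12, 13, 14, 15, 16]
def tq : List ℕ := [124, 124, 124, 124, 124, 124, 124, 124, 124, 124, 123, 123, 123, 123, 122, 124, 124, 124, 124, 124, 123, 123, 123, 123, 122, 122, 122, 121, 121, 120, 119, 120, 119, 121, 120, 119, 122, 121, 120, 119, 123, 122, 121, 120, 119, 118, 118, 117, 116, 115, 118, 117, 116, 115, 114, 113, 112, 111, 110, 109]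

/-- a root of the radical that can be added to `r` -/
noncomputable def tq' (r : ℕ) : ℕ := cond (Nat.blt r 33) 125 (nth (217 - r) tq (r - 33))

theorem R_chk : aI 0 126 (fun r => Nat.beq (vv (.w (nw (nth 0 ta r) ++ nw (nth 126 tb r))) tc) (2 ^ r) &&
    (r == 125 || (Nat.ble 93 (tq' r) && Nat.blt (tq' r) 126 && !Nat.beq (vv (.w [tq' r]) (2 ^ r) % TT) (2 ^ r % TT)))) = true := by
  decide +kernel

theorem rt_x {r : ℕ} (hr : r < 126) : Rt (x r) (e r) := by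
  have h := aI_spec R_chk r.zero_le (by omega)
  rw [Bool.and_eq_true] at h
  have h1 := vv_sound h.1
  rw [den_w, dec_eT, dec_pow (by omega)] at h1
  refine ⟨_, wd_grp _, ?_, h1.symm⟩
  rw [wd_append, eT_def] at *
  rw [X_def, ((mono_nw _).mul (mono_nw _)).conj (by norm_num) (by omega) h1]

theorem vv_ne {a : Ex} {y z : ℕ} (h : (!Nat.beq (vv a y % TT) (z % TT)) = true) : den a (dec y) ≠ dec z := by
  rw [← dec_vv]
  refine dec_ne fun h1 => ?_
  rw [TT_eq, h1] at h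
  simp at h

theorem Rt.centQ {d : Γ} {v : V} (a : Rt d v) (h : ∀ s, 93 ≤ s → s < 126 → x s * d = d * x s) : d = X := by
  obtain ⟨u, hu, r, hr, rfl, rfl⟩ := a.form
  have hQ : Q ≤ Subgroup.centralizer {u * x r * u⁻¹} :=
    gen_le fun s hs hp => Subgroup.mem_centralizer_singleton_iff.2 (h s hp hs)
  have h1 := aI_spec R_chk r.zero_le (by omega)
  simp only [Bool.and_eq_true, Bool.or_eq_true, beq_iff_eq, Nat.ble_eq, Nat.blt_eq] at h1
  rcases h1.2 with rfl | ⟨⟨h2, h3⟩, h4⟩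
  · rw [← X_def, (cf hu).x, mul_inv_cancel_right]
  · have h5 := Subgroup.mem_centralizer_singleton_iff.1 (hQ (conj_Q hu (x_gen h3 h2)))
    have := vv_ne h4
    rw [den_w1, dec_pow (by omega)] at this
    refine absurd (((rt_x hr).fix_iff (x_mem _)).2 ?_) this
    rw [show x (tq' r) * x r = u⁻¹ * (u * x (tq' r) * u⁻¹ * (u * x r * u⁻¹)) * u by group, h5]; group

theorem Rt.opp {d : Γ} {v : V} (a : Rt d v) (h : co 0 v = 1) : ∃ q ∈ Q, d = q * Y * q⁻¹ ∧ v = act q e0 := by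
  obtain ⟨u, hu, r, hr, rfl, rfl⟩ := a.form
  rw [(cf hu).o, co_e (by norm_num)] at h
  obtain rfl : 0 = r := by by_contra h1; rw [if_neg h1] at h; exact zero_ne_one h
  obtain ⟨q, hq, k, hk, rfl⟩ := levi hu
  refine ⟨q, hq, ?_, by rw [act_mul, ← e0_def, (kf hk).1]⟩
  rw [← Y_def, mul_assoc q, (rt_Y.fix_iff (C_le (K_le hk))).1 (kf hk).1]; group

theorem Rt.braid {d : Γ} {v : V} (a : Rt d v) (h : co 0 v = 1) : d = X * d * X * (X * d)⁻¹ := by
  obtain ⟨q, hq, rfl, -⟩ := a.opp h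
  have h1 : X = q * X * q⁻¹ := by rw [(cf (Q_le hq)).x, mul_inv_cancel_right]
  have h2 : Y = X * Y * X * (X * Y)⁻¹ := by
    rw [CfsgLib.E7M.braid, mul_inv_rev, X_inv, Y_inv, show Y * X * Y * (Y * X) = Y * (X * (Y * Y) * X) by group, YY, mul_one, XX,
      mul_one]
  calc q * Y * q⁻¹ = q * (X * Y * X * (X * Y)⁻¹) * q⁻¹ := by rw [← h2]
    _ = (q * X * q⁻¹) * (q * Y * q⁻¹) * (q * X * q⁻¹) * ((q * X * q⁻¹) * (q * Y * q⁻¹))⁻¹ := by group
    _ = _ := by rw [← h1]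

theorem S_chk : aI 0 33 (fun r => Nat.beq (vv G0 (2 ^ r)) 0 && (r == 0 || (eqE (.w [125, r, 125, r]) (.w [r + 92]) &&
    Nat.beq (vv (.w (nw r)) tc) (2 ^ (r + 92)) && Nat.beq (vv (.w (nw r)) (2 ^ (125 - r))) (2 ^ r) &&
    Nat.beq (vv (.w (nw 125)) (2 ^ (r + 92))) (2 ^ r)))) = true := by
  decide +kernel

theorem Rt.nopp {d : Γ} {v : V} (a : Rt d v) (h : co 0 v = 0) : X * d = d * X ∨
    ((∃ w, Rt (X * d * X * d) w) ∧ X * d * X * d ∈ Q ∧ ∀ g ∈ grp, X * d * X * d = g * X * g⁻¹ → g⁻¹ * d * g ∈ Q) := by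
  obtain ⟨u, hu, r, hr, rfl, rfl⟩ := a.form
  by_cases h1 : 33 ≤ r
  · exact Or.inl (cf (mul_mem (mul_mem hu (x_gen hr h1)) (inv_mem hu))).x.symm
  rw [(cf hu).o, co_e (by norm_num)] at h
  have h0 : r ≠ 0 := by rintro rfl; rw [if_pos rfl] at h; exact one_ne_zero h
  have h2 := aI_spec S_chk r.zero_le (by omega)
  simp only [Bool.and_eq_true, Bool.or_eq_true, beq_iff_eq] at h2
  obtain ⟨⟨⟨h3, h4⟩, h5⟩, -⟩ := h2.2.resolve_left h0
  have a3 := eqW h3
  have a4 := vv_sound h4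
  have a5 := vv_sound h5
  rw [den_w, dec_pow (by omega), dec_pow (by omega)] at a5
  rw [den_w, dec_eT, dec_pow (by omega), eT_def] at a4
  have b4 := (mono_nw r).conj (by norm_num) (by omega) a4
  have b5 := (mono_nw r).conj (by omega) (by omega) a5
  rw [wd_cons, wd3, wd_one, ← X_def] at a3
  have hX : X = u * X * u⁻¹ := by rw [(cf hu).x, mul_inv_cancel_right]
  have e1 : X * (u * x r * u⁻¹) * X * (u * x r * u⁻¹) = u * x (r + 92) * u⁻¹ := by
    calc _ = (u * X * u⁻¹) * (u * x r * u⁻¹) * (u * X * u⁻¹) * (u * x r * u⁻¹) := by rw [← hX]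
      _ = _ := by rw [← a3]; group
  rw [e1]
  refine Or.inr ⟨⟨_, (rt_x (by omega)).conj (C_le hu)⟩, conj_Q hu (x_gen (by omega) (by omega)), fun g hg e2 => ?_⟩
  have hc : (u * wd (nw r))⁻¹ * g ∈ C := by
    refine C_of_comm (mul_mem (inv_mem (mul_mem (C_le hu) (wd_grp _))) hg) ?_
    rw [show (u * wd (nw r))⁻¹ * g * X = (u * wd (nw r))⁻¹ * (g * X * g⁻¹) * g by group, ← e2, ← b4, X_def]; group
  have := conj_Q' hc (x_gen (p := (93 ≤ ·)) (show 125 - r < 126 by omega) (by omega))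
  rw [← b5]
  convert this using 1
  group

theorem Rt.F0 {d : Γ} {v : V} (a : Rt d v) (h : g0 v = v) : act X v = v := by
  refine (a.fix_iff X_grp).2 ?_
  obtain ⟨u, hu, r, hr, rfl, rfl⟩ := a.form
  have h1 := (cf (inv_mem hu)).f0 _ h
  rw [act_inv] at h1
  by_cases h2 : 33 ≤ r
  · exact (cf (mul_mem (mul_mem hu (x_gen hr h2)) (inv_mem hu))).x.symm
  have h3 := aI_spec S_chk r.zero_le (by omega)
  rw [Bool.and_eq_true] at h3
  have := vv_sound h3.1
  rw [dec_pow (by omega), ← g0_def, h1, dec_zero] at this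
  exact absurd this (e_ne (by omega))

theorem Rt.inQ {d : Γ} {v : V} (a : Rt d v) (h : d ∈ Q) : g1 v = v ∧ p1 v = φ d := by
  obtain ⟨u, hu, r, hr, rfl, rfl⟩ := a.form
  have h1 : x r ∈ Q := by simpa [mul_assoc] using conj_Q' hu h
  have h2 := le_of_x_Q hr h1
  have h3 := (Q_x h2 hr).2.2.1
  exact ⟨(cf hu).f1 _ h3, by rw [φ_conj hu h1, φ_x h2 hr, p1_act hu h3]⟩

theorem Rt.ne_one {d : Γ} {v : V} (a : Rt d v) : d ≠ 1 := by
  obtain ⟨g, -, rfl, -⟩ := a
  intro h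
  have h1 : X = 1 := by rw [show X = g⁻¹ * (g * X * g⁻¹) * g by group, h]; group
  have h2 := n_eT
  rw [h1, one_mul, mul_one, (rt_X.fix_iff Y_grp).2 (by rw [h1, one_mul, mul_one])] at h2
  exact zero_ne_one (co_eT.symm.trans (h2 ▸ co_e0))

theorem co_of_comm {d : Γ} {v : V} (a : Rt d v) (h : X * d = d * X) : co 0 v = 0 := by
  refine (f2 _).resolve_right fun h1 => ?_
  have h2 := a.braid h1
  rw [show X * d * X * (X * d)⁻¹ = X * (d * X) * d⁻¹ * X⁻¹ by group, ← h, X_inv,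
    show X * (X * d) * d⁻¹ * X = X * X * X by group, XX, one_mul] at h2
  obtain ⟨q, hq, h3, -⟩ := a.opp h1
  have h4 : Y = X := by
    rw [show Y = q⁻¹ * (q * Y * q⁻¹) * q by group, ← h3, h2, mul_assoc, ← (cf (Q_le hq)).x, inv_mul_cancel_left]
  have := (rt_X.fix_iff n_grp).2 (by rw [h4]; group)
  exact zero_ne_one (co_eT.symm.trans (by rw [← this, n_eT, co_e0]))

theorem XY_ne : X * Y ≠ Y * X := fun h => zero_ne_one ((co_of_comm rt_Y h).symm.trans co_e0)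

def g1t : List ℕ := [93, 93, 93, 93, 93, 93, 93, 93, 93, 93, 94, 94, 94, 94, 95, 93, 93, 93, 93, 93, 94, 94, 94, 94, 95, 95, 95, 96, 96, 97, 97, 96, 96, 95, 95, 95, 94, 94, 94, 94, 93, 93, 93, 93, 93, 95, 94, 94, 94, 94, 93, 93, 93, 93, 93, 93, 93, 93, 93, 93]
def g2t : List ℕ := [17, 18, 19, 20, 21, 22, 23, 24, 25, 26, 23, 24, 25, 26, 26, 27, 28, 29, 30, 31, 27, 28, 29, 30, 27, 28, 29, 27, 28, 27, 98, 97, 98, 96, 97, 98, 95, 96, 97, 98, 94, 95, 96, 97, 98, 99, 99, 100, 101, 102, 99, 100, 101, 102, 103, 104, 105, 106, 107, 108]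

theorem G_chk : aI 33 60 (fun r => force (nth 0 g1t (r - 33)) fun a => force (nth 0 g2t (r - 33)) fun b =>
    Nat.ble 93 a && Nat.blt a 126 && (Nat.blt b 33 || Nat.ble 93 b) && Nat.blt b 126 &&
      Nat.beq (vv (.w (nw a)) (2 ^ b)) (2 ^ r)) = true := by
  decide +kernel

theorem grp_gen : grp = gen fun _ => True := grp_eq.symm.trans (UU_eq fun _ => Iff.rfl)

theorem top_of_Q {M : Subgroup Γ} (hQ : Q ≤ M) (hY : Y ∈ M) : grp ≤ M := by
  have h1 : ∀ r < 126, 93 ≤ r → x r ∈ M := fun r hr h => hQ (x_gen hr h)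
  have hn : ∀ a b r, a < 126 → x a ∈ M → x (125 - a) ∈ M → b < 126 → x b ∈ M → r < 133 →
      Nat.beq (vv (.w (nw a)) (2 ^ b)) (2 ^ r) = true → x r ∈ M := fun a b r ha h2 h3 hb h4 hr h => by
    have := vv_sound h
    rw [den_w, dec_pow (by omega), dec_pow hr] at this
    have hw : wd (nw a) ∈ M := by
      rw [nw, show Nat.blt a 126 = true by simpa using ha, cond_true, wd3]
      exact mul_mem (mul_mem h2 h3) h2
    rw [← (mono_nw a).conj hb hr this]
    exact mul_mem (mul_mem hw h4) (inv_mem hw)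
  have h2 : ∀ r < 33, x r ∈ M := fun r hr => by
    by_cases h0 : r = 0
    · rw [h0, ← Y_def]; exact hY
    have h2 := aI_spec S_chk r.zero_le (by omega)
    simp only [Bool.and_eq_true, Bool.or_eq_true, beq_iff_eq] at h2
    exact hn 125 (r + 92) r (by norm_num) (h1 _ (by norm_num) (by norm_num)) (Y_def ▸ hY) (by omega)
      (h1 _ (by omega) (by omega)) (by omega) (h2.2.resolve_left h0).2
  rw [grp_gen]
  refine gen_le fun r hr _ => ?_
  by_cases a1 : r < 33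
  · exact h2 r a1
  by_cases a2 : 93 ≤ r
  · exact h1 r hr a2
  have h := aI_spec G_chk (not_lt.1 a1) (by omega)
  simp only [force_eq, Bool.and_eq_true, Bool.or_eq_true, Nat.ble_eq, Nat.blt_eq] at h
  obtain ⟨⟨⟨⟨b1, b2⟩, b3⟩, b4⟩, b5⟩ := h
  exact hn _ _ r b2 (h1 _ b2 b1) (h2 _ (by omega)) b4 (b3.elim (h2 _) (h1 _ b4)) (by omega) b5

end CfsgLib.E7M
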